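import Mathlib
import Cfsg.Agent.Lib.CosetTable.Check

/-! Generated certificate data for the coset table `ONSimpleMax4`. -/

namespace Cfsg.Agent.Lib.CosetTable.ONSimpleMax4

open Cfsg.Agent.Lib.CosetTable

set_option maxRecDepth 10000

noncomputable def facts : T := .leaf 0x600000000000500000000000400000000000300000000000200000000000100000000000000000000000e00000000000d00000000000c00000000000b00000000000a000000000009000000000008

noncomputable def defs : T := .leaf 0x0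

noncomputable def nodeT : ℕ := 0x0

noncomputable def parT : ℕ := 0x0

noncomputable def perm0 : ℕ := 0x0

noncomputable def eid0 : ℕ := 0x7

noncomputable def perm1 : ℕ := 0x0

noncomputable def eid1 : ℕ := 0x8

noncomputable def perm2 : ℕ := 0x0

noncomputable def eid2 : ℕ := 0x9

noncomputable def perm3 : ℕ := 0x0

noncomputable def eid3 : ℕ := 0xa

noncomputable def perm4 : ℕ := 0x0

noncomputable def eid4 : ℕ := 0xb

noncomputable def perm5 : ℕ := 0x0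

noncomputable def eid5 : ℕ := 0xc

noncomputable def perm6 : ℕ := 0x0

noncomputable def eid6 : ℕ := 0xd

noncomputable def rulesT : RT := .node (.node (.node (.leaf 0 [8] 58 0) (.leaf 4 [12] 62 0)) (.node (.leaf 2 [10] 60 0) (.leaf 6 [14] 64 0))) (.node (.node (.leaf 1 [9] 59 0) (.leaf 5 [13] 63 0)) (.node (.leaf 3 [11] 61 0) (.leaf 7 [] 0 0)))

noncomputable def relsL : List (List ℕ) := [[0, 0],
  [0, 1, 0, 1, 0, 1],
  [0, 2, 0, 2],
  [0, 3, 0, 3],
  [0, 4, 0, 4],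
  [0, 5, 0, 5],
  [1, 1],
  [1, 2, 1, 2, 1, 2],
  [1, 3, 1, 3],
  [1, 4, 1, 4],
  [1, 5, 1, 5],
  [2, 2],
  [2, 3, 2, 3, 2, 3, 2, 3, 2, 3, 2, 3, 2, 3, 2, 3],
  [2, 4, 2, 4],
  [2, 5, 2, 5],
  [3, 3],
  [3, 4, 3, 4, 3, 4],
  [3, 5, 3, 5],
  [4, 4],
  [4, 5, 4, 5, 4, 5],
  [5, 5],
  [6, 6],
  [0, 5, 3, 2, 3, 2, 3, 2, 3, 2],
  [6, 2, 3, 2, 3, 6, 3, 2, 3, 2],
  [2, 6, 3, 6, 3, 2, 3, 6, 3, 6],
  [3, 6, 2, 6, 2, 3, 2, 6, 2, 6],
  [1, 3, 2, 6, 1, 3, 2, 6, 1, 3, 2, 6, 1, 3, 2, 6, 1, 3, 2, 6],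
  [2, 6, 1, 2, 6, 3, 2, 3, 1, 3, 2, 3, 2, 6, 1, 2, 6],
  [3, 6, 4, 3, 6, 3, 2, 3, 2, 3, 4, 3, 2, 3, 2, 6, 4, 3, 6]]

noncomputable def subsL : List (List ℕ) := [[0],
  [1],
  [2],
  [3],
  [4],
  [5],
  [6]]

noncomputable def cert : Cert where
  k := 7
  rels := relsL
  subs := subsL
  rules := rulesT
  facts := facts
  defs := defs

noncomputable def tab : Table where
  n := 1
  k := 7
  node := nodeT
  perms := [perm0, perm1, perm2, perm3, perm4, perm5, perm6]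
  eids := [eid0, eid1, eid2, eid3, eid4, eid5, eid6]
  par := parT

end Cfsg.Agent.Lib.CosetTable.ONSimpleMax4
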